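import Groth.Agent.Lib.Derived21.Field

/-!
# The smooth connected normal subgroup generated by a geometrically reduced connected scheme
-/

set_option autoImplicit false
set_option linter.style.haveILetI false
set_option backward.isDefEq.respectTransparency.types false

universe u

open CategoryTheory Limits MonoidalCategory CartesianMonoidalCategory MonObj AlgebraicGeometry
open Groth.Agent.DiagGL Groth.Agent.TorPts21

noncomputable section

namespace Groth.Agent.Derived21

variable {k : Type u} [Field k]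

set_option maxHeartbeats 1000000 in
/-- The normal closed subgroup generated by a pointed connected geometrically reduced scheme. -/
theorem exists_normal_closure (G : Over (Spec (CommRingCat.of k))) [GrpObj G] [IsAffine G.left] [Smooth G.hom]
    [ConnectedSpace G.left] {X : Over (Spec (CommRingCat.of k))} [GeometricallyReduced X.hom] [ConnectedSpace X.left]
    (x : X ⟶ G) (e : 𝟙_ (Over (Spec (CommRingCat.of k))) ⟶ X) (he : e ≫ x = η[G]) :
    ∃ (N : Over (Spec (CommRingCat.of k))) (_ : GrpObj N) (i : N ⟶ G) (_ : IsMonHom i),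
      IsClosedImmersion i.left ∧ Smooth N.hom ∧ ConnectedSpace ↥N.left ∧ AlgGrp.IsNormalHom i ∧
      (∃ x' : X ⟶ N, x' ≫ i = x) ∧
      ∀ {S : Scheme.{u}} (σ : S ⟶ Spec (CommRingCat.of k)) (R : Over S) [GrpObj R] (r : R ⟶ Red.bc σ G) [IsMonHom r]
        [IsImmersion r.left], AlgGrp.IsNormalHom r →
        (∃ t : Red.bc σ X ⟶ R, t ≫ r = (Over.pullback σ).map x) → ∃ j : Red.bc σ N ⟶ R, j ≫ r = (Over.pullback σ).map i := by
  haveI : GeometricallyReduced G.hom := AbRigid.geometricallyReduced_of_smooth G.hom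
  haveI : GeometricallyReduced (G ⊗ X).hom := GrpGen20.geometricallyReduced_tensorObj _ _
  haveI : GeometricallyConnected G.hom := GrpGen20.geometricallyConnected_of_connected G
  haveI : ConnectedSpace (G ⊗ X).left := inferInstanceAs (ConnectedSpace ↥(Limits.pullback G.hom X.hom))
  let φ : G ⊗ X ⟶ G := fst G X * (snd G X ≫ x) * (fst G X)⁻¹
  obtain ⟨N, _, i, him, hic, ⟨f', hf'⟩, hgr, hrange, hmin⟩ := GrpGen20.exists_generated φ
  haveI := him
  haveI := hic
  haveI := hgr
  haveI : Mono i := Over.mono_of_mono_left i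
  haveI : LocallyOfFiniteType N.hom := by rw [← Over.w i]; infer_instance
  haveI : IsReduced (pullback N.hom (Spec.map (CommRingCat.ofHom (algebraMap k (AlgebraicClosure k))))) :=
    GeometricallyReduced.geometrically_isReduced _ _ _ (IsPullback.of_hasPullback _ _)
  haveI hsm : Smooth N.hom := GrpSmooth19.smooth_of_isReduced_baseChange N (AlgebraicClosure k)
  have hφ : ∀ {T : Over (Spec (CommRingCat.of k))} (a : T ⟶ G) (b : T ⟶ X), lift a b ≫ φ = a * (b ≫ x) * a⁻¹ :=
    fun a b => by simp only [φ, MonObj.comp_mul, GrpObj.comp_inv, lift_fst, lift_snd_assoc]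
  have hone : lift (1 : 𝟙_ (Over (Spec (CommRingCat.of k))) ⟶ G) e ≫ φ = η[G] := by
    rw [hφ, he, _root_.one_mul, inv_one, _root_.mul_one]
  haveI : ConnectedSpace N.left := by
    have hc : _root_.IsPreconnected (Set.range i.left) := by
      rw [hrange]; exact (GrpGen20.isPreconnected_genSet φ _ hone).closure
    haveI : Nonempty N.left := ⟨η[N].left (IsLocalRing.closedPoint k)⟩
    haveI : PreconnectedSpace N.left := ⟨by
      rw [← i.left.isClosedEmbedding.isInducing.isPreconnected_image, Set.image_univ]; exact hc⟩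
    exact ⟨inferInstance⟩
  have hgen : ∀ (D : Over (Spec (CommRingCat.of k))) (_ : GrpObj D) (c : D ⟶ N), IsMonHom c → IsClosedImmersion c.left →
      (∃ f'' : G ⊗ X ⟶ D, f'' ≫ c = f') → ∀ (T : Over (Spec (CommRingCat.of k))) (g : T ⟶ N), ∃ z, z ≫ c = g := by
    intro D hD c hc1 hc2 hc3 T g
    obtain ⟨d, hd⟩ := hc3
    haveI := hc2
    haveI : IsClosedImmersion (c ≫ i).left := by rw [Over.comp_left]; infer_instance
    obtain ⟨l, hl⟩ := hmin D hD (c ≫ i) inferInstance inferInstance
      ⟨d, by rw [← Category.assoc, hd, hf']⟩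
    exact ⟨g ≫ l, by rw [← cancel_mono i, Category.assoc, Category.assoc, hl]⟩
  refine ⟨N, inferInstance, i, him, hic, hsm, inferInstance, isNormalHom_of_generated i f' hgen fun T y g => ?_,
    ⟨lift 1 (𝟙 X) ≫ f', by
      rw [Category.assoc, hf', hφ, Category.id_comp, _root_.one_mul, inv_one, _root_.mul_one]⟩,
    fun {S} σ R _ r _ _ hn ht => ?_⟩
  · refine ⟨lift (g * (y ≫ fst G X)) (y ≫ snd G X) ≫ f', ?_⟩
    rw [Category.assoc, hf', hφ, Category.assoc y f' i, hf',
      show y = lift (y ≫ fst G X) (y ≫ snd G X) by simp [← comp_lift], hφ, lift_fst, lift_snd]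
    simp only [_root_.mul_assoc, mul_inv_rev]
  · obtain ⟨t, ht⟩ := ht
    obtain ⟨n', hn'⟩ := hn _ ((Over.pullback σ).map (fst G X)) ((Over.pullback σ).map (snd G X) ≫ t)
    refine GrpGen20.exists_factor_bc f' hgen i σ R r ⟨n', ?_⟩
    rw [← hn', Category.assoc, ht, hf', ← Functor.map_comp]
    simp only [φ, Functor.map_mul, Functor.map_inv']

end Groth.Agent.Derived21
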