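import Groth.Agent.Lib.GrpGen20.CommBound
import Groth.Agent.Lib.GrpGen20.Generated
import Groth.Agent.Lib.GrpSmooth19.Basic
import Groth.Agent.Lib.AbRigid.SmoothGI
import Groth.Agent.Lib.TorPts21.Sub

/-!
# The derived subgroup of a connected smooth group over an algebraically closed field
-/

set_option autoImplicit false
set_option linter.style.haveILetI false
set_option backward.isDefEq.respectTransparency.types false

universe u

open CategoryTheory Limits MonoidalCategory CartesianMonoidalCategory MonObj AlgebraicGeometry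

open scoped commutatorElement

noncomputable section

namespace Groth.Agent.Derived21

variable {k : Type u} [Field k] [IsAlgClosed k] (G : Over (Spec (CommRingCat.of k))) [GrpObj G]
  [LocallyOfFiniteType G.hom] [Smooth G.hom] [ConnectedSpace G.left]

/-- The commutator subgroup of the rational points is the group of points of a smooth connected closed
subgroup. -/
theorem exists_derived :
    ∃ (D : Over (Spec (CommRingCat.of k))) (_ : GrpObj D) (i : D ⟶ G) (_ : IsMonHom i),
      IsClosedImmersion i.left ∧ Smooth D.hom ∧ ConnectedSpace ↥D.left ∧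
      Set.range (fun d : 𝟙_ (Over (Spec (CommRingCat.of k))) ⟶ D => d ≫ i) =
        ((commutator (𝟙_ (Over (Spec (CommRingCat.of k))) ⟶ G) :
          Subgroup (𝟙_ (Over (Spec (CommRingCat.of k))) ⟶ G)) :
          Set (𝟙_ (Over (Spec (CommRingCat.of k))) ⟶ G)) := by
  haveI : IsMonHom (𝟙 G) := inferInstance
  haveI : QuasiCompact G.hom := GrpGen20.quasiCompact_of_connected G
  haveI : GeometricallyReduced G.hom := AbRigid.geometricallyReduced_of_smooth G.hom
  haveI : GeometricallyReduced (G ⊗ G).hom := GrpGen20.geometricallyReduced_tensorObj _ _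
  haveI : LocallyOfFiniteType (G ⊗ G).hom :=
    inferInstanceAs (LocallyOfFiniteType (Limits.pullback.fst G.hom G.hom ≫ G.hom))
  haveI : QuasiCompact (G ⊗ G).hom := inferInstanceAs (QuasiCompact (Limits.pullback.fst G.hom G.hom ≫ G.hom))
  haveI : GeometricallyConnected G.hom := GrpGen20.geometricallyConnected_of_connected G
  haveI : ConnectedSpace (G ⊗ G).left := inferInstanceAs (ConnectedSpace ↥(Limits.pullback G.hom G.hom))
  let φ : G ⊗ G ⟶ G := GrpGen20.commHom (𝟙 G) (𝟙 G)
  obtain ⟨D, _, i, him, hic, ⟨f', hf'⟩, hgr, hrange, -⟩ := GrpGen20.exists_generated φ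
  haveI := him
  haveI := hic
  haveI := hgr
  haveI : LocallyOfFiniteType D.hom := by rw [← Over.w i]; infer_instance
  haveI : IsReduced (pullback D.hom (Spec.map (CommRingCat.ofHom (algebraMap k k)))) :=
    GeometricallyReduced.geometrically_isReduced _ _ _ (IsPullback.of_hasPullback _ _)
  haveI hsm : Smooth D.hom := GrpSmooth19.smooth_of_isReduced_baseChange D k
  have hφ : ∀ a b : 𝟙_ (Over (Spec (CommRingCat.of k))) ⟶ G, lift a b ≫ φ = ⁅a, b⁆ := fun a b => by
    show lift a b ≫ GrpGen20.commHom (𝟙 G) (𝟙 G) = _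
    rw [GrpGen20.comp_commHom, lift_fst, lift_snd, Category.comp_id, Category.comp_id]
  have hone : lift (1 : 𝟙_ (Over (Spec (CommRingCat.of k))) ⟶ G) 1 ≫ φ = η[G] := by
    rw [hφ, commutatorElement_one_left]
    simp [Hom.one_def]
  haveI : ConnectedSpace D.left := by
    have hc : _root_.IsPreconnected (Set.range i.left) := by
      rw [hrange]; exact (GrpGen20.isPreconnected_genSet φ _ hone).closure
    haveI : Nonempty D.left := ⟨η[D].left (IsLocalRing.closedPoint k)⟩
    haveI : PreconnectedSpace D.left := ⟨by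
      rw [← i.left.isClosedEmbedding.isInducing.isPreconnected_image, Set.image_univ]; exact hc⟩
    exact ⟨inferInstance⟩
  refine ⟨D, inferInstance, i, him, hic, hsm, inferInstance, Set.Subset.antisymm ?_ ?_⟩
  · obtain ⟨n, W, -, hWn, hW⟩ := GrpGen20.exists_bound_commHom_connected (𝟙 G) (𝟙 G)
    have h1 : Set.range i.left ⊆ closure (GrpGen20.wordSet φ n) := by
      rw [hrange]
      exact closure_minimal ((GrpGen20.genSet_subset_iUnion φ).trans
        ((Set.iUnion_subset hW).trans (closure_minimal hWn isClosed_closure))) isClosed_closure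
    have hr := GrpGen20.range_eq_wordSet φ i ⟨f', hf'⟩ n h1
    rintro _ ⟨d, rfl⟩
    obtain ⟨T, p, x, ε, hx⟩ : (d ≫ i).left (IsLocalRing.closedPoint k) ∈ GrpGen20.wordSet φ (n + n) :=
      hr ▸ ⟨d.left (IsLocalRing.closedPoint k), by rw [← AbRigid.left_comp_apply]⟩
    obtain ⟨a, ha⟩ := GrpGen20.exists_rational_word φ p x ε (d ≫ i) (IsLocalRing.closedPoint k) hx
    show d ≫ i ∈ commutator _
    rw [← ha]
    refine Subgroup.list_prod_mem _ fun z hz => ?_
    obtain ⟨j, rfl⟩ := List.mem_ofFn.1 hz
    have hm : a j ≫ φ ∈ commutator (𝟙_ (Over (Spec (CommRingCat.of k))) ⟶ G) := by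
      rw [show a j = lift (a j ≫ fst G G) (a j ≫ snd G G) by simp [← comp_lift], hφ]
      exact Subgroup.commutator_mem_commutator (Subgroup.mem_top _) (Subgroup.mem_top _)
    split_ifs
    · exact hm
    · exact inv_mem hm
  · let P : Subgroup (𝟙_ (Over (Spec (CommRingCat.of k))) ⟶ G) :=
      (MonoidHom.mk' (fun d : 𝟙_ (Over (Spec (CommRingCat.of k))) ⟶ D => d ≫ i)
        fun x y => MonObj.mul_comp x y i).range
    refine Set.Subset.trans (SetLike.coe_subset_coe.2 (show commutator _ ≤ P from Subgroup.commutator_le.2 fun a _ b _ => ?_)) (fun _ h => h)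
    exact ⟨lift a b ≫ f', by
      show (lift a b ≫ f') ≫ i = _
      rw [Category.assoc, hf', hφ]⟩

omit [GrpObj G] [LocallyOfFiniteType G.hom] [Smooth G.hom] [ConnectedSpace G.left] in
/-- A smooth closed subgroup is determined by its rational points. -/
theorem exists_iso_of_range_eq [IsAffine G.left] {D D' : Over (Spec (CommRingCat.of k))} (i : D ⟶ G) (i' : D' ⟶ G)
    [IsClosedImmersion i.left] [IsClosedImmersion i'.left] [Smooth D.hom] [Smooth D'.hom]
    (h : Set.range (fun d : 𝟙_ (Over (Spec (CommRingCat.of k))) ⟶ D => d ≫ i) =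
      Set.range (fun d : 𝟙_ (Over (Spec (CommRingCat.of k))) ⟶ D' => d ≫ i')) :
    ∃ e : D ≅ D', e.hom ≫ i' = i := by
  haveI : IsAffine D.left := isAffine_of_isAffineHom i.left
  haveI : IsAffine D'.left := isAffine_of_isAffineHom i'.left
  haveI : Mono i := Over.mono_of_mono_left i
  haveI : Mono i' := Over.mono_of_mono_left i'
  have key : ∀ {E E' : Over (Spec (CommRingCat.of k))} (j : E ⟶ G) (j' : E' ⟶ G) [IsAffine E.left] [Smooth E.hom]
      [IsClosedImmersion j'.left],
      Set.range (fun d : 𝟙_ (Over (Spec (CommRingCat.of k))) ⟶ E => d ≫ j) ⊆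
        Set.range (fun d : 𝟙_ (Over (Spec (CommRingCat.of k))) ⟶ E' => d ≫ j') →
      ∃ f : E ⟶ E', f ≫ j' = j := by
    intro E E' j j' _ _ _ hsub
    refine TorPts21.exists_lift_of_pts j' j fun x => ?_
    obtain ⟨g, rfl⟩ := TorPts21.exists_gpt x
    obtain ⟨d, hd⟩ := hsub ⟨g, rfl⟩
    exact ⟨TorPts21.gpt d, by simp only [TorPts21.gpt, Category.assoc]; rw [show d ≫ j' = g ≫ j from hd]⟩
  obtain ⟨f, hf⟩ := key i i' h.le
  obtain ⟨f', hf'⟩ := key i' i h.ge
  refine ⟨⟨f, f', ?_, ?_⟩, hf⟩
  · rw [← cancel_mono i, Category.assoc, hf', hf, Category.id_comp]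
  · rw [← cancel_mono i', Category.assoc, hf, hf', Category.id_comp]

end Groth.Agent.Derived21
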