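import Groth.Agent.Lib.GrpGen20.CommBound
import Groth.Agent.Lib.GrpGen20.Generated
import Groth.Agent.Lib.GrpGen20.BaseChange
import Groth.Agent.Lib.GrpSmooth19.Basic
import Groth.Agent.Lib.AbRigid.SmoothGI
import Groth.Agent.Lib.BorelFix21.BaseChange
import Groth.Agent.Lib.TorPts21.UnipPart
import Groth.Agent.Lib.TorPts21.BorelCentre

/-!
# The subgroup generated by commutators over an arbitrary field

It is smooth, connected and normal; for a solvable group it has no geometric subtori.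
-/

set_option autoImplicit false
set_option linter.style.haveILetI false
set_option backward.isDefEq.respectTransparency.types false

universe u

open CategoryTheory Limits MonoidalCategory CartesianMonoidalCategory MonObj AlgebraicGeometry
open Groth.Agent.DiagGL Groth.Agent.TorPts21
open scoped commutatorElement

noncomputable section

namespace Groth.Agent.Derived21

variable {k : Type u} [Field k]

/-- A subgroup generated by a morphism with conjugation-stable image is normal. -/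
theorem isNormalHom_of_generated {G X Γ : Over (Spec (CommRingCat.of k))} [GrpObj G] [GrpObj Γ] [IsSeparated G.hom]
    (i : Γ ⟶ G) [IsMonHom i] [IsClosedImmersion i.left] (f' : X ⟶ Γ)
    (hgen : ∀ (C : Over (Spec (CommRingCat.of k))) (_ : GrpObj C) (c : C ⟶ Γ), IsMonHom c → IsClosedImmersion c.left →
      (∃ f'' : X ⟶ C, f'' ≫ c = f') → ∀ (T : Over (Spec (CommRingCat.of k))) (g : T ⟶ Γ), ∃ z, z ≫ c = g)
    (hconj : ∀ (T : Over (Spec (CommRingCat.of k))) (x : T ⟶ X) (g : T ⟶ G),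
      ∃ z : T ⟶ Γ, z ≫ i = g * ((x ≫ f') ≫ i) * g⁻¹) :
    AlgGrp.IsNormalHom i := by
  haveI : Mono i := Over.mono_of_mono_left i
  let c : Γ ⊗ G ⟶ G := snd Γ G * (fst Γ G ≫ i) * (snd Γ G)⁻¹
  let y := Limits.pullback.snd i c
  haveI : IsClosedImmersion y.left :=
    MorphismProperty.of_isPullback (P := @IsClosedImmersion) ((IsPullback.of_hasPullback i c).map (Over.forget _))
      ‹IsClosedImmersion i.left›
  have hiff : ∀ {T : Over (Spec (CommRingCat.of k))} (a : T ⟶ Γ) (s : T ⟶ G),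
      GrpGen20.PairMem y a s ↔ ∃ z : T ⟶ Γ, z ≫ i = s * (a ≫ i) * s⁻¹ := by
    intro T a s
    have e : lift a s ≫ c = s * (a ≫ i) * s⁻¹ := by
      simp only [c, MonObj.comp_mul, GrpObj.comp_inv, lift_fst_assoc, lift_snd]
    constructor
    · rintro ⟨z, hz⟩
      exact ⟨z ≫ Limits.pullback.fst _ _, by rw [Category.assoc, Limits.pullback.condition, ← Category.assoc, hz, e]⟩
    · rintro ⟨z, hz⟩
      exact ⟨Limits.pullback.lift z (lift a s) (by rw [hz, e]), Limits.pullback.lift_snd _ _ _⟩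
  have hcl : GrpGen20.GenClosed y f' := by
    refine ⟨fun s => (hiff _ _).2 ⟨1, by rw [MonObj.one_comp, _root_.mul_one, mul_inv_cancel]⟩,
      fun s h1 h2 => (hiff _ _).2 ?_, fun s h1 => (hiff _ _).2 ?_, fun x s => (hiff _ _).2 (hconj _ x s)⟩
    · obtain ⟨z₁, hz₁⟩ := (hiff _ _).1 h1
      obtain ⟨z₂, hz₂⟩ := (hiff _ _).1 h2
      exact ⟨z₁ * z₂, by rw [MonObj.mul_comp, MonObj.mul_comp, hz₁, hz₂]; group⟩
    · obtain ⟨z, hz⟩ := (hiff _ _).1 h1
      exact ⟨z⁻¹, by rw [GrpObj.inv_comp, GrpObj.inv_comp, hz]; group⟩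
  intro T g n
  obtain ⟨z, hz⟩ := (hiff n g).1 (GrpGen20.pairMem_of_closed f' hgen y hcl n g)
  exact ⟨z, hz.symm⟩

set_option maxHeartbeats 1000000 in
/-- The closed subgroup generated by commutators. -/
theorem exists_commutator_subgroup (G : Over (Spec (CommRingCat.of k))) [GrpObj G] [IsAffine G.left] [Smooth G.hom]
    [ConnectedSpace G.left] :
    ∃ (N : Over (Spec (CommRingCat.of k))) (_ : GrpObj N) (i : N ⟶ G) (_ : IsMonHom i),
      IsClosedImmersion i.left ∧ Smooth N.hom ∧ ConnectedSpace ↥N.left ∧ AlgGrp.IsNormalHom i ∧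
      (Red.IsSolvableGrp G → ∀ s : ↥(Spec (CommRingCat.of k)),
        Red.HasNoSubtorus (AlgebraicClosure ((Spec (CommRingCat.of k)).residueField s)) (Red.geomFibre s N)) ∧
      ∀ (T : Over (Spec (CommRingCat.of k))) (a b : T ⟶ G), ∃ z : T ⟶ N, z ≫ i = ⁅a, b⁆ := by
  haveI : QuasiCompact G.hom := GrpGen20.quasiCompact_of_connected G
  haveI : GeometricallyReduced G.hom := AbRigid.geometricallyReduced_of_smooth G.hom
  haveI : GeometricallyReduced (G ⊗ G).hom := GrpGen20.geometricallyReduced_tensorObj _ _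
  haveI : GeometricallyConnected G.hom := GrpGen20.geometricallyConnected_of_connected G
  haveI : ConnectedSpace (G ⊗ G).left := inferInstanceAs (ConnectedSpace ↥(Limits.pullback G.hom G.hom))
  let φ : G ⊗ G ⟶ G := GrpGen20.commHom (𝟙 G) (𝟙 G)
  obtain ⟨N, _, i, him, hic, ⟨f', hf'⟩, hgr, hrange, hmin⟩ := GrpGen20.exists_generated φ
  haveI := him
  haveI := hic
  haveI := hgr
  haveI : Mono i := Over.mono_of_mono_left i
  haveI : LocallyOfFiniteType N.hom := by rw [← Over.w i]; infer_instance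
  haveI : IsReduced (pullback N.hom (Spec.map (CommRingCat.ofHom (algebraMap k (AlgebraicClosure k))))) :=
    GeometricallyReduced.geometrically_isReduced _ _ _ (IsPullback.of_hasPullback _ _)
  haveI hsm : Smooth N.hom := GrpSmooth19.smooth_of_isReduced_baseChange N (AlgebraicClosure k)
  have hφ : ∀ {T : Over (Spec (CommRingCat.of k))} (a b : T ⟶ G), lift a b ≫ φ = ⁅a, b⁆ := fun a b => by
    show lift a b ≫ GrpGen20.commHom (𝟙 G) (𝟙 G) = _
    rw [GrpGen20.comp_commHom, lift_fst, lift_snd, Category.comp_id, Category.comp_id]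
  have hone : lift (1 : 𝟙_ (Over (Spec (CommRingCat.of k))) ⟶ G) 1 ≫ φ = η[G] := by
    rw [hφ, commutatorElement_one_left]
    simp [Hom.one_def]
  haveI : ConnectedSpace N.left := by
    have hc : _root_.IsPreconnected (Set.range i.left) := by
      rw [hrange]; exact (GrpGen20.isPreconnected_genSet φ _ hone).closure
    haveI : Nonempty N.left := ⟨η[N].left (IsLocalRing.closedPoint k)⟩
    haveI : PreconnectedSpace N.left := ⟨by
      rw [← i.left.isClosedEmbedding.isInducing.isPreconnected_image, Set.image_univ]; exact hc⟩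
    exact ⟨inferInstance⟩
  have hgen : ∀ (D : Over (Spec (CommRingCat.of k))) (_ : GrpObj D) (c : D ⟶ N), IsMonHom c → IsClosedImmersion c.left →
      (∃ f'' : G ⊗ G ⟶ D, f'' ≫ c = f') → ∀ (T : Over (Spec (CommRingCat.of k))) (g : T ⟶ N), ∃ z, z ≫ c = g := by
    intro D hD c hc1 hc2 hc3 T g
    obtain ⟨d, hd⟩ := hc3
    haveI := hc2
    haveI : IsClosedImmersion (c ≫ i).left := by rw [Over.comp_left]; infer_instance
    obtain ⟨l, hl⟩ := hmin D hD (c ≫ i) inferInstance inferInstance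
      ⟨d, by rw [← Category.assoc, hd, hf']⟩
    exact ⟨g ≫ l, by rw [← cancel_mono i, Category.assoc, Category.assoc, hl]⟩
  refine ⟨N, inferInstance, i, him, hic, hsm, inferInstance, isNormalHom_of_generated i f' hgen fun T x g => ?_,
    fun hsolv s => ?_, fun T a b => ⟨lift a b ≫ f', by rw [Category.assoc, hf', hφ]⟩⟩
  · refine ⟨lift (g * (x ≫ fst G G) * g⁻¹) (g * (x ≫ snd G G) * g⁻¹) ≫ f', ?_⟩
    rw [Category.assoc, hf', hφ, Category.assoc, hf',
      show x = lift (x ≫ fst G G) (x ≫ snd G G) by simp [← comp_lift], hφ, lift_fst, lift_snd]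
    simp only [commutatorElement_def]
    group
  let K := AlgebraicClosure ((Spec (CommRingCat.of k)).residueField s)
  let σ : Spec (CommRingCat.of K) ⟶ Spec (CommRingCat.of k) := Red.geomPt s
  let F := Over.pullback σ
  haveI : IsAffine (Red.bc σ G).left := BorelFix21.isAffine_bc σ G
  haveI : Smooth (Red.bc σ G).hom := BorelFix21.smooth_bc σ G
  haveI : ConnectedSpace (Red.bc σ G).left := BorelFix21.connectedSpace_bc σ G
  obtain ⟨n, r, hr, hrc, hu⟩ := exists_upper_embedding (𝟙 (Red.bc σ G)) (isSolvableGrp_bc σ hsolv)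
  haveI := hr
  haveI := hrc
  haveI : IsClosedImmersion (𝟙 (Red.bc σ G) : Red.bc σ G ⟶ Red.bc σ G).left :=
    inferInstanceAs (IsClosedImmersion (𝟙 (Red.bc σ G).left))
  obtain ⟨R, _, ρ, hrm, hρc, hrs, hrn, -, hR, hpts⟩ := exists_unip_part r (𝟙 _) hu
  haveI := hrm
  haveI := hρc
  haveI : IsAffine R.left := isAffine_of_isAffineHom ρ.left
  let ψ : Red.bc σ G ⊗ Red.bc σ G ⟶ Red.bc σ G := GrpGen20.commHom (𝟙 _) (𝟙 _)
  haveI : Smooth (Red.bc σ G ⊗ Red.bc σ G).hom :=
    inferInstanceAs (Smooth (pullback.fst (Red.bc σ G).hom (Red.bc σ G).hom ≫ (Red.bc σ G).hom))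
  haveI : IsAffine (Red.bc σ G ⊗ Red.bc σ G).left :=
    inferInstanceAs (IsAffine (pullback (Red.bc σ G).hom (Red.bc σ G).hom))
  obtain ⟨g, hg⟩ := exists_lift_of_pts ρ ψ fun x => by
    refine (hpts _).2 ?_
    show mtx (𝟙 (Red.bc σ G) ≫ r) (x ≫ GrpGen20.commHom (𝟙 _) (𝟙 _)) ∈ MatGrp21.lay 1
    rw [GrpGen20.comp_commHom, commutatorElement_def, map_mul, map_mul, map_mul, map_inv, map_inv]
    have h := MatGrp21.commutator_mem_lay (Subgroup.inv_mem _ (hu ⟨(x ≫ fst _ _) ≫ 𝟙 _, rfl⟩))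
      (Subgroup.inv_mem _ (hu ⟨(x ≫ snd _ _) ≫ 𝟙 _, rfl⟩))
    rwa [inv_inv, inv_inv] at h
  haveI : Mono ρ := Over.mono_of_mono_left ρ
  obtain ⟨j, hj⟩ := GrpGen20.exists_factor_bc f' hgen i σ R ρ ⟨Functor.OplaxMonoidal.δ F G G ≫ g, by
    rw [Category.assoc, hg, hf', show ψ = Functor.LaxMonoidal.μ F G G ≫ F.map φ by
      show _ = Functor.LaxMonoidal.μ F G G ≫ F.map (GrpGen20.commHom (𝟙 G) (𝟙 G))
      rw [GrpGen20.map_commHom]; simp [ψ, F], Functor.Monoidal.δ_μ_assoc]⟩
  haveI : IsClosedImmersion (F.map i).left := BorelFix21.isClosedImmersion_bc σ i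
  haveI : Mono (F.map i) := Over.mono_of_mono_left _
  haveI : IsMonHom j := BorelFix21.isMonHom_of_comp ρ j (hj ▸ inferInstance)
  haveI : Mono j := mono_of_mono_fac hj
  intro T _ t _ _ hT
  exact hR T (t ≫ j) hT

end Groth.Agent.Derived21
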